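import Cfsg.Agent.Helper92.Fi23S.PcAbs

set_option autoImplicit false

/-!
# Commuting involutions, and the action of a polycyclic sequence on them (abstract part)
-/

namespace Cfsg.Agent.Helper92.Fi23S

variable {G : Type*} [Group G]

/-- a list of commuting involutions -/
def CommInv (ds : List G) : Prop := (∀ x ∈ ds, x * x = 1) ∧ ∀ x ∈ ds, ∀ y ∈ ds, x * y = y * x

theorem commInv_tail {d : G} {ds : List G} (h : CommInv (d :: ds)) : CommInv ds :=
  ⟨fun x hx => h.1 x (List.mem_cons_of_mem _ hx),
    fun x hx y hy => h.2 x (List.mem_cons_of_mem _ hx) y (List.mem_cons_of_mem _ hy)⟩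

theorem commute_prodL (x : G) (ds : List G) (h : ∀ y ∈ ds, x * y = y * x) (v : ℕ) :
    x * prodL ds v = prodL ds v * x := by
  induction ds generalizing v with
  | nil => simp [prodL_nil]
  | cons d ds ih =>
    rw [prodL_cons]
    have h1 : x * d = d * x := h d List.mem_cons_self
    have h2 := ih (fun y hy => h y (List.mem_cons_of_mem _ hy)) (v / 2)
    split
    · rw [← mul_assoc, h1, mul_assoc, h2, mul_assoc]
    · rw [one_mul]; exact h2

theorem prodL_xor (ds : List G) (h : CommInv ds) (v w : ℕ) :
    prodL ds (v ^^^ w) = prodL ds v * prodL ds w := by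
  induction ds generalizing v w with
  | nil => simp [prodL_nil]
  | cons d ds ih =>
    have hds := commInv_tail h
    rw [prodL_cons, prodL_cons, prodL_cons, Nat.xor_div_two, ih hds]
    have hd2 : d * d = 1 := h.1 d List.mem_cons_self
    have hc : ∀ u, d * prodL ds u = prodL ds u * d := fun u =>
      commute_prodL d ds (fun y hy => h.2 d List.mem_cons_self y (List.mem_cons_of_mem _ hy)) u
    by_cases hv : v % 2 = 1 <;> by_cases hw : w % 2 = 1
    · have hx : ¬ ((v ^^^ w) % 2 = 1) := by rw [Nat.xor_mod_two_eq_one]; simp [hv, hw]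
      rw [if_neg hx, if_pos hv, if_pos hw, one_mul]
      calc prodL ds (v / 2) * prodL ds (w / 2)
          = (d * d) * prodL ds (v / 2) * prodL ds (w / 2) := by rw [hd2, one_mul]
        _ = d * (d * prodL ds (v / 2)) * prodL ds (w / 2) := by rw [mul_assoc d d]
        _ = d * (prodL ds (v / 2) * d) * prodL ds (w / 2) := by rw [hc]
        _ = d * prodL ds (v / 2) * (d * prodL ds (w / 2)) := by simp only [mul_assoc]
    · have hx : (v ^^^ w) % 2 = 1 := by rw [Nat.xor_mod_two_eq_one]; simp [hv, hw]
      rw [if_pos hx, if_pos hv, if_neg hw, one_mul, mul_assoc]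
    · have hx : (v ^^^ w) % 2 = 1 := by rw [Nat.xor_mod_two_eq_one]; simp [hv, hw]
      rw [if_pos hx, if_neg hv, if_pos hw, one_mul, ← mul_assoc, hc, mul_assoc]
    · have hx : ¬ ((v ^^^ w) % 2 = 1) := by rw [Nat.xor_mod_two_eq_one]; simp [hv, hw]
      rw [if_neg hx, if_neg hv, if_neg hw, one_mul, one_mul, one_mul]

theorem pcOK_of_commInv (ds : List G) (h : CommInv ds) : PcOK ds := by
  induction ds with
  | nil => trivial
  | cons d ds ih =>
    have hd2 : d * d = 1 := h.1 d List.mem_cons_self
    refine ⟨ih (commInv_tail h), ?_, ?_⟩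
    · rw [hd2]; exact one_mem _
    · intro x hx
      have hinv : d⁻¹ = d := inv_eq_of_mul_eq_one_left hd2
      have hc : d * x = x * d := h.2 d List.mem_cons_self x (List.mem_cons_of_mem _ hx)
      have : d⁻¹ * x * d = x := by
        rw [hinv, hc, mul_assoc, hd2, mul_one]
      rw [this]
      exact mem_clL_of_mem hx

/-- the vector-matrix product over `F_2`, vectors and rows coded in binary -/
def vmL : List ℕ → ℕ → ℕ
  | [], _ => 0
  | r :: rs, v => (if v % 2 = 1 then r else 0) ^^^ vmL rs (v / 2)

theorem vmL_nil (v : ℕ) : vmL [] v = 0 := rfl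
theorem vmL_cons (r : ℕ) (rs : List ℕ) (v : ℕ) :
    vmL (r :: rs) v = (if v % 2 = 1 then r else 0) ^^^ vmL rs (v / 2) := rfl

theorem conj_prodL (D : List G) (hD : CommInv D) (τ : G) :
    ∀ (ds : List G) (rs : List ℕ), List.Forall₂ (fun d r => τ⁻¹ * d * τ = prodL D r) ds rs →
      ∀ v, τ⁻¹ * prodL ds v * τ = prodL D (vmL rs v) := by
  intro ds rs h
  induction h with
  | nil => intro v; simp [prodL_nil, vmL_nil, prodL_zero]
  | cons hd _ ih =>
    intro v
    rw [prodL_cons, vmL_cons, prodL_xor D hD, ← ih (v / 2)]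
    split
    · rw [← hd]; group
    · rw [prodL_zero]; group

/-- the action of the product selected by `e` of a list of matrices -/
def actL : List (List ℕ) → ℕ → ℕ → ℕ
  | [], _, v => v
  | M :: Ms, e, v => actL Ms (e / 2) (if e % 2 = 1 then vmL M v else v)

theorem actL_nil (e v : ℕ) : actL [] e v = v := rfl
theorem actL_cons (M : List ℕ) (Ms : List (List ℕ)) (e v : ℕ) :
    actL (M :: Ms) e v = actL Ms (e / 2) (if e % 2 = 1 then vmL M v else v) := rfl

theorem conj_tprod (D : List G) (hD : CommInv D) :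
    ∀ (ts : List G) (Ms : List (List ℕ)),
      List.Forall₂ (fun t M => List.Forall₂ (fun d r => t⁻¹ * d * t = prodL D r) D M) ts Ms →
      ∀ e v, (prodL ts e)⁻¹ * prodL D v * prodL ts e = prodL D (actL Ms e v) := by
  intro ts Ms h
  induction h with
  | nil => intro e v; simp [prodL_nil, actL_nil]
  | cons hd _ ih =>
    intro e v
    rw [prodL_cons, actL_cons, ← ih]
    split
    · rw [← conj_prodL D hD _ D _ hd v]; group
    · group

end Cfsg.Agent.Helper92.Fi23S
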