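import Cfsg.Agent.Helper92.Fi23S.PcMain
import Cfsg.Prelude.Def_Transfer

set_option autoImplicit false
set_option maxRecDepth 100000

/-!
# The final form of the statement about normal elementary abelian subgroups, and transport along isomorphisms
-/

namespace Cfsg.Agent.Helper92.Fi23S

namespace PcModel

variable {G : Type*} [Group G] {T E : Subgroup G}

theorem finite_T (M : PcModel T E) : Finite T :=
  Nat.finite_of_card_ne_zero (by rw [M.card_T]; norm_num)

theorem finite_E (M : PcModel T E) : Finite E :=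
  Nat.finite_of_card_ne_zero (by rw [M.card_E]; norm_num)

theorem normal_of_subgroupOf (A : Subgroup G) (hAT : A ≤ T) (hn : (A.subgroupOf T).Normal) :
    ∀ t ∈ T, ∀ a ∈ A, t⁻¹ * a * t ∈ A := by
  intro t ht a ha
  have h := hn.conj_mem ⟨a, hAT ha⟩ (by rw [Subgroup.mem_subgroupOf]; exact ha) ⟨t⁻¹, inv_mem ht⟩
  rw [Subgroup.mem_subgroupOf] at h
  simpa using h

theorem comm_of_isMulCommutative (A : Subgroup G) (h : IsMulCommutative A) :
    ∀ a ∈ A, ∀ b ∈ A, a * b = b * a := by
  intro a ha b hb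
  have := h.is_comm.comm (⟨a, ha⟩ : A) ⟨b, hb⟩
  exact congrArg Subtype.val this

theorem subgroupOf_normal (M : PcModel T E) : (E.subgroupOf T).Normal := by
  constructor
  intro n hn g
  rw [Subgroup.mem_subgroupOf] at hn ⊢
  have h := M.normalE (g⁻¹ : T) n (inv_mem g.2) hn
  simpa using h

theorem isElementaryAbelian_E (M : PcModel T E) : Cfsg.IsElementaryAbelian 2 E := by
  refine ⟨⟨⟨fun a b => Subtype.ext (M.E_comm a b a.2 b.2)⟩⟩, fun a ha => M.E_sq a ha⟩

/-- the statement -/
theorem final (M : PcModel T E) :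
    (∀ A : Subgroup G, A ≤ T → (A.subgroupOf T).Normal → Cfsg.IsElementaryAbelian 2 A →
        Nat.card A ≤ 2 ^ 11) ∧
    ∃! A : Subgroup G, A ≤ T ∧ (A.subgroupOf T).Normal ∧ Cfsg.IsElementaryAbelian 2 A ∧
        Nat.card A = 2 ^ 11 := by
  haveI := M.finite_E
  have key : ∀ A : Subgroup G, A ≤ T → (A.subgroupOf T).Normal → Cfsg.IsElementaryAbelian 2 A →
      A ≤ E ∨ Nat.card A ≤ 1024 := by
    intro A hAT hn hEA
    by_cases h : A ≤ E
    · exact Or.inl h
    · exact Or.inr (M.card_le_of_not_le A hAT (normal_of_subgroupOf A hAT hn)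
        (comm_of_isMulCommutative A hEA.1) h)
  constructor
  · intro A hAT hn hEA
    rcases key A hAT hn hEA with h | h
    · have := Subgroup.card_le_of_le h
      rw [M.card_E] at this
      exact le_trans this (by norm_num)
    · exact le_trans h (by norm_num)
  · refine ⟨E, ⟨M.hET, M.subgroupOf_normal, M.isElementaryAbelian_E, by rw [M.card_E]; norm_num⟩, ?_⟩
    rintro A ⟨hAT, hn, hEA, hcard⟩
    rcases key A hAT hn hEA with h | h
    · exact Subgroup.eq_of_le_of_card_ge h (by rw [M.card_E, hcard]; norm_num)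
    · exfalso; rw [hcard] at h; norm_num at h

/-- transport along an isomorphism -/
def map {G' : Type*} [Group G'] (φ : G ≃* G') (M : PcModel T E) :
    PcModel (T.map φ.toMonoidHom) (E.map φ.toMonoidHom) where
  τ := fun e => φ (M.τ e)
  δ := fun v => φ (M.δ v)
  act := M.act
  hT := by
    rintro y ⟨x, hx, rfl⟩
    obtain ⟨e, he, v, hv, rfl⟩ := M.hT x hx
    exact ⟨e, he, v, hv, by simp⟩
  hτT := fun e he => ⟨M.τ e, M.hτT e he, rfl⟩
  hτ0 := by simp [M.hτ0]
  hδE := fun v hv => ⟨M.δ v, M.hδE v hv, rfl⟩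
  hE := by
    rintro y ⟨x, hx, rfl⟩
    obtain ⟨v, hv, rfl⟩ := M.hE x hx
    exact ⟨v, hv, rfl⟩
  hET := Subgroup.map_mono M.hET
  hxor := fun v w => by simp [M.hxor]
  hinj := fun v hv h => M.hinj v hv (by simpa using h)
  hact := fun e he v hv => by
    rw [← M.hact e he v hv]; simp
  hactlt := M.hactlt
  hC1 := M.hC1
  hC2 := M.hC2
  hC3 := M.hC3

end PcModel

end Cfsg.Agent.Helper92.Fi23S
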