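import Mathlib

set_option autoImplicit false

/-!
# Polycyclic sequences of involution type: normal forms (abstract part)

`prodL gs m` is the ordered product of those members of the list `gs` that are selected by the binary digits of `m`.
If every member `g` of the list normalises the subgroup generated by the later members and `g * g` lies in it
(`PcOK`), then every element of the subgroup generated by the list is such a product.
-/

namespace Cfsg.Agent.Helper92.Fi23S

variable {G : Type*} [Group G]

/-- ordered product of the members of `gs` selected by the binary digits of `m` -/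
def prodL : List G → ℕ → G
  | [], _ => 1
  | g :: gs, m => (if m % 2 = 1 then g else 1) * prodL gs (m / 2)

theorem prodL_nil (m : ℕ) : prodL ([] : List G) m = 1 := rfl

theorem prodL_cons (g : G) (gs : List G) (m : ℕ) :
    prodL (g :: gs) m = (if m % 2 = 1 then g else 1) * prodL gs (m / 2) := rfl

theorem prodL_zero (gs : List G) : prodL gs 0 = 1 := by
  induction gs with
  | nil => rfl
  | cons g gs ih => rw [prodL_cons]; simp [ih]

/-- the subgroup generated by a list -/
def clL (gs : List G) : Subgroup G := Subgroup.closure {x | x ∈ gs}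

theorem mem_clL_of_mem {gs : List G} {x : G} (h : x ∈ gs) : x ∈ clL gs :=
  Subgroup.subset_closure h

theorem clL_mono_cons (g : G) (gs : List G) : clL gs ≤ clL (g :: gs) := by
  apply Subgroup.closure_mono
  intro x hx
  exact List.mem_cons_of_mem g hx

theorem prodL_mem (gs : List G) (m : ℕ) : prodL gs m ∈ clL gs := by
  induction gs generalizing m with
  | nil => rw [prodL_nil]; exact one_mem _
  | cons g gs ih =>
    rw [prodL_cons]
    apply mul_mem
    · split
      · exact mem_clL_of_mem List.mem_cons_self
      · exact one_mem _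
    · exact clL_mono_cons g gs (ih _)

/-- the polycyclic condition -/
def PcOK : List G → Prop
  | [] => True
  | g :: gs => PcOK gs ∧ g * g ∈ clL gs ∧ ∀ x ∈ gs, g⁻¹ * x * g ∈ clL gs

/-- one step: adjoining an element that normalises `H` and whose square lies in `H` -/
theorem step_mem (H : Subgroup G) (g : G) (S : Set G) (hS : H = Subgroup.closure S) (hg2 : g * g ∈ H)
    (hc : ∀ x ∈ S, g⁻¹ * x * g ∈ H) :
    ∀ y ∈ Subgroup.closure (insert g S), y ∈ H ∨ ∃ h ∈ H, y = g * h := by
  have h1 : ∀ x ∈ H, g⁻¹ * x * g ∈ H := by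
    intro x hx
    rw [hS] at hx
    induction hx using Subgroup.closure_induction with
    | mem x hx => exact hc x hx
    | one => simp [one_mem]
    | mul x y _ _ ihx ihy =>
      have : g⁻¹ * (x * y) * g = (g⁻¹ * x * g) * (g⁻¹ * y * g) := by group
      rw [this]; exact mul_mem ihx ihy
    | inv x _ ihx =>
      have : g⁻¹ * x⁻¹ * g = (g⁻¹ * x * g)⁻¹ := by group
      rw [this]; exact inv_mem ihx
  have h3 : ∀ x ∈ H, g * x * g⁻¹ ∈ H := by
    intro x hx
    have : g * x * g⁻¹ = (g * g) * (g⁻¹ * x * g) * (g * g)⁻¹ := by group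
    rw [this]
    exact mul_mem (mul_mem hg2 (h1 x hx)) (inv_mem hg2)
  intro y hy
  induction hy using Subgroup.closure_induction with
  | mem x hx =>
    rcases hx with rfl | hx
    · exact Or.inr ⟨1, one_mem _, by simp⟩
    · left; rw [hS]; exact Subgroup.subset_closure hx
  | one => exact Or.inl (one_mem _)
  | mul x y _ _ ihx ihy =>
    rcases ihx with hx | ⟨a, ha, rfl⟩ <;> rcases ihy with hy | ⟨b, hb, rfl⟩
    · exact Or.inl (mul_mem hx hy)
    · right
      refine ⟨(g⁻¹ * x * g) * b, mul_mem (h1 x hx) hb, by group⟩
    · right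
      exact ⟨a * y, mul_mem ha hy, by group⟩
    · left
      have : g * a * (g * b) = (g * g) * (g⁻¹ * a * g) * b := by group
      rw [this]
      exact mul_mem (mul_mem hg2 (h1 a ha)) hb
  | inv x _ ihx =>
    rcases ihx with hx | ⟨a, ha, rfl⟩
    · exact Or.inl (inv_mem hx)
    · right
      refine ⟨(g * g)⁻¹ * (g * a⁻¹ * g⁻¹), mul_mem (inv_mem hg2) (h3 _ (inv_mem ha)), by group⟩

theorem setOf_mem_cons (g : G) (gs : List G) : {x | x ∈ g :: gs} = insert g {x | x ∈ gs} := by
  ext x; simp

/-- normal forms -/
theorem nf_of_pcOK (gs : List G) (h : PcOK gs) :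
    ∀ y ∈ clL gs, ∃ m, m < 2 ^ gs.length ∧ y = prodL gs m := by
  induction gs with
  | nil =>
    intro y hy
    refine ⟨0, by simp, ?_⟩
    have : clL ([] : List G) = ⊥ := by
      unfold clL
      have : {x : G | x ∈ ([] : List G)} = ∅ := by ext x; simp
      rw [this, Subgroup.closure_empty]
    rw [this, Subgroup.mem_bot] at hy
    rw [hy, prodL_nil]
  | cons g gs ih =>
    obtain ⟨hgs, hg2, hc⟩ := h
    intro y hy
    have hy' : y ∈ Subgroup.closure (insert g {x | x ∈ gs}) := by
      rw [← setOf_mem_cons]; exact hy
    rcases step_mem (clL gs) g {x | x ∈ gs} rfl hg2 (fun x hx => hc x hx) y hy' with hH | ⟨a, ha, rfl⟩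
    · obtain ⟨m, hm, rfl⟩ := ih hgs y hH
      refine ⟨2 * m, ?_, ?_⟩
      · rw [List.length_cons, pow_succ]; omega
      · rw [prodL_cons]
        have h1 : (2 * m) % 2 = 0 := by omega
        have h2 : (2 * m) / 2 = m := by omega
        rw [h2, if_neg (by omega), one_mul]
    · obtain ⟨m, hm, rfl⟩ := ih hgs a ha
      refine ⟨2 * m + 1, ?_, ?_⟩
      · rw [List.length_cons, pow_succ]; omega
      · rw [prodL_cons]
        have h2 : (2 * m + 1) / 2 = m := by omega
        rw [h2, if_pos (by omega)]

/-- splitting a product along an append -/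
theorem prodL_append (as bs : List G) (m : ℕ) :
    prodL (as ++ bs) m = prodL as (m % 2 ^ as.length) * prodL bs (m / 2 ^ as.length) := by
  induction as generalizing m with
  | nil => simp [prodL_nil, Nat.mod_one]
  | cons a as ih =>
    rw [List.cons_append, prodL_cons, ih, prodL_cons, List.length_cons, mul_assoc]
    have h1 : m % 2 ^ (as.length + 1) % 2 = m % 2 := by
      rw [pow_succ, Nat.mod_mul_left_mod]
    have h2 : m / 2 % 2 ^ as.length = m % 2 ^ (as.length + 1) / 2 := by
      rw [pow_succ, Nat.mul_comm, Nat.mod_mul_right_div_self]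
    have h3 : m / 2 / 2 ^ as.length = m / 2 ^ (as.length + 1) := by
      rw [Nat.div_div_eq_div_mul, pow_succ, Nat.mul_comm]
    rw [h1, h2, h3]

end Cfsg.Agent.Helper92.Fi23S
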