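import Cfsg.Agent.Helper92.Fi23S.PcAct

set_option autoImplicit false
set_option maxRecDepth 100000

/-!
# A 2-group `T = 2^11 . 2^7` without quadratic pairs: normal abelian subgroups (abstract part)

`PcModel T E`: every element of `T` is `τ e * δ v` (`e < 128`, `v < 2048`), `E = {δ v}` is elementary abelian of order
`2^11` (`δ` turns `xor` into the product), conjugation by `τ e` acts on `E` as `act e`, the fixed vectors of every `act e` with `e ≠ 0` have index at least `4`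
(certified by two basis vectors), and there are no quadratic pairs. Then a normal abelian subgroup of `T` that is not
contained in `E` has order at most `2^10`.
-/

namespace Cfsg.Agent.Helper92.Fi23S

variable {G : Type*} [Group G]

/-- the abstract model -/
structure PcModel (T E : Subgroup G) where
  /-- coset representatives of `E` in `T` -/
  τ : ℕ → G
  /-- the elements of `E` -/
  δ : ℕ → G
  /-- the action on `E` -/
  act : ℕ → ℕ → ℕ
  hT : ∀ y ∈ T, ∃ e < 128, ∃ v < 2048, y = τ e * δ v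
  hτT : ∀ e < 128, τ e ∈ T
  hτ0 : τ 0 = 1
  hδE : ∀ v < 2048, δ v ∈ E
  hE : ∀ y ∈ E, ∃ v < 2048, y = δ v
  hET : E ≤ T
  hxor : ∀ v w, δ (v ^^^ w) = δ v * δ w
  hinj : ∀ v < 2048, δ v = 1 → v = 0
  hact : ∀ e < 128, ∀ v < 2048, (τ e)⁻¹ * δ v * τ e = δ (act e v)
  hactlt : ∀ e < 128, ∀ v < 2048, act e v < 2048
  hC1 : ∀ e < 128, 0 < e → ∃ j1 < 11, ∃ j2 < 11, act e (2 ^ j1) ≠ 2 ^ j1 ∧ act e (2 ^ j2) ≠ 2 ^ j2 ∧
    act e (2 ^ j1 ^^^ 2 ^ j2) ≠ 2 ^ j1 ^^^ 2 ^ j2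
  hC2 : ∀ e < 128, ∀ e' < 128, 0 < e → 0 < e' → e ≠ e' →
    ∃ j < 11, (2 ^ j ^^^ act e (2 ^ j)) ^^^ act e' (2 ^ j ^^^ act e (2 ^ j)) ≠ 0
  hC3 : ∀ e < 128, ∀ e' < 128, e ≠ e' → ∃ j < 11, act e (2 ^ j) ≠ act e' (2 ^ j)

namespace PcModel

variable {T E : Subgroup G} (M : PcModel T E)
include M

theorem δ0 : M.δ 0 = 1 := by
  have h := M.hxor 0 0
  rw [Nat.xor_self] at h
  exact right_eq_mul.mp h

theorem δsq (v : ℕ) : M.δ v * M.δ v = 1 := by
  rw [← M.hxor, Nat.xor_self, M.δ0]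

theorem δinv (v : ℕ) : (M.δ v)⁻¹ = M.δ v := inv_eq_of_mul_eq_one_left (M.δsq v)

theorem δcomm (v w : ℕ) : M.δ v * M.δ w = M.δ w * M.δ v := by
  rw [← M.hxor, Nat.xor_comm, M.hxor]

theorem xor_lt (v w : ℕ) (hv : v < 2048) (hw : w < 2048) : v ^^^ w < 2048 := by
  have : (2048 : ℕ) = 2 ^ 11 := by norm_num
  rw [this] at hv hw ⊢
  exact Nat.xor_lt_two_pow hv hw

theorem δinjOn (v w : ℕ) (hv : v < 2048) (hw : w < 2048) (h : M.δ v = M.δ w) : v = w := by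
  have h1 : M.δ (v ^^^ w) = 1 := by rw [M.hxor, h, M.δsq]
  exact Nat.xor_eq_zero_iff.mp (M.hinj _ (M.xor_lt v w hv hw) h1)

theorem pow_lt (j : ℕ) (hj : j < 11) : 2 ^ j < 2048 := by
  have : (2048 : ℕ) = 2 ^ 11 := by norm_num
  rw [this]
  exact Nat.pow_lt_pow_right (by norm_num) hj

theorem conj_elt (e v0 w : ℕ) (he : e < 128) (hw : w < 2048) :
    (M.τ e * M.δ v0)⁻¹ * M.δ w * (M.τ e * M.δ v0) = M.δ (M.act e w) := by
  calc (M.τ e * M.δ v0)⁻¹ * M.δ w * (M.τ e * M.δ v0)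
      = (M.δ v0)⁻¹ * ((M.τ e)⁻¹ * M.δ w * M.τ e) * M.δ v0 := by group
    _ = M.δ v0 * M.δ (M.act e w) * M.δ v0 := by rw [M.hact e he w hw, M.δinv]
    _ = M.δ (M.act e w) * (M.δ v0 * M.δ v0) := by rw [M.δcomm, mul_assoc]
    _ = M.δ (M.act e w) := by rw [M.δsq, mul_one]

theorem normalE (t x : G) (ht : t ∈ T) (hx : x ∈ E) : t⁻¹ * x * t ∈ E := by
  obtain ⟨e, he, v, _, rfl⟩ := M.hT t ht
  obtain ⟨w, hw, rfl⟩ := M.hE x hx
  rw [M.conj_elt e v w he hw]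
  exact M.hδE _ (M.hactlt e he w hw)

theorem E_comm (x y : G) (hx : x ∈ E) (hy : y ∈ E) : x * y = y * x := by
  obtain ⟨v, _, rfl⟩ := M.hE x hx
  obtain ⟨w, _, rfl⟩ := M.hE y hy
  exact M.δcomm v w

theorem E_sq (x : G) (hx : x ∈ E) : x ^ 2 = 1 := by
  obtain ⟨v, _, rfl⟩ := M.hE x hx
  rw [pow_two]; exact M.δsq v

theorem E_eq_image : (E : Set G) = M.δ '' ((Finset.range 2048 : Finset ℕ) : Set ℕ) := by
  ext x
  constructor
  · intro hx
    obtain ⟨v, hv, rfl⟩ := M.hE x hx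
    exact ⟨v, by simpa using hv, rfl⟩
  · rintro ⟨v, hv, rfl⟩
    exact M.hδE v (by simpa using hv)

theorem card_E : Nat.card E = 2048 := by
  have h1 : Nat.card E = (E : Set G).ncard := (Nat.card_coe_set_eq (E : Set G))
  rw [h1, M.E_eq_image, Set.ncard_image_of_injOn, Set.ncard_coe_finset, Finset.card_range]
  intro v hv w hw h
  exact M.δinjOn v w (by simpa using hv) (by simpa using hw) h

theorem T_eq_image : (T : Set G) =
    (fun p : ℕ × ℕ => M.τ p.1 * M.δ p.2) '' ((Finset.range 128 ×ˢ Finset.range 2048 : Finset (ℕ × ℕ)) : Set (ℕ × ℕ)) := by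
  ext x
  constructor
  · intro hx
    obtain ⟨e, he, v, hv, rfl⟩ := M.hT x hx
    exact ⟨(e, v), by simp [he, hv], rfl⟩
  · rintro ⟨⟨e, v⟩, hp, rfl⟩
    simp only [Finset.coe_product, Finset.coe_range, Set.mem_prod, Set.mem_Iio] at hp
    exact mul_mem (M.hτT e hp.1) (M.hET (M.hδE v hp.2))

theorem nf_unique (e v e' v' : ℕ) (he : e < 128) (hv : v < 2048) (he' : e' < 128) (hv' : v' < 2048)
    (h : M.τ e * M.δ v = M.τ e' * M.δ v') : e = e' ∧ v = v' := by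
  have hee : e = e' := by
    by_contra hne
    obtain ⟨j, hj, hj2⟩ := M.hC3 e he e' he' hne
    have hw := M.pow_lt j hj
    have h1 := M.conj_elt e v (2 ^ j) he hw
    have h2 := M.conj_elt e' v' (2 ^ j) he' hw
    rw [h] at h1
    rw [h1] at h2
    exact hj2 (M.δinjOn _ _ (M.hactlt e he _ hw) (M.hactlt e' he' _ hw) h2)
  subst hee
  exact ⟨rfl, M.δinjOn v v' hv hv' (mul_left_cancel h)⟩

theorem card_T : Nat.card T = 2 ^ 18 := by
  have h1 : Nat.card T = (T : Set G).ncard := (Nat.card_coe_set_eq (T : Set G))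
  rw [h1, M.T_eq_image, Set.ncard_image_of_injOn, Set.ncard_coe_finset, Finset.card_product, Finset.card_range,
    Finset.card_range]
  · norm_num
  · rintro ⟨e, v⟩ hp ⟨e', v'⟩ hp' h
    simp only [Finset.coe_product, Finset.coe_range, Set.mem_prod, Set.mem_Iio] at hp hp'
    obtain ⟨h1, h2⟩ := M.nf_unique e v e' v' hp.1 hp.2 hp'.1 hp'.2 h
    rw [h1, h2]

/-- an element `τ e * δ v` of an abelian subgroup `A` fixes the vectors of `A ⊓ E` -/
theorem fix_of_comm (A : Subgroup G) (hAb : ∀ a ∈ A, ∀ b ∈ A, a * b = b * a) (e v w : ℕ) (he : e < 128)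
    (hw : w < 2048) (hb : M.τ e * M.δ v ∈ A) (hc : M.δ w ∈ A) : M.act e w = w := by
  have h1 := M.conj_elt e v w he hw
  have h2 : (M.τ e * M.δ v)⁻¹ * M.δ w * (M.τ e * M.δ v) = M.δ w := by
    rw [mul_assoc, hAb _ hc _ hb, ← mul_assoc, inv_mul_cancel, one_mul]
  rw [h2] at h1
  exact (M.δinjOn _ _ hw (M.hactlt e he w hw) h1).symm

/-- commutators with `E` of an element of a normal subgroup -/
theorem comm_mem (A : Subgroup G) (hN : ∀ t ∈ T, ∀ a ∈ A, t⁻¹ * a * t ∈ A) (e v w : ℕ) (he : e < 128)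
    (hw : w < 2048) (ha : M.τ e * M.δ v ∈ A) : M.δ (w ^^^ M.act e w) ∈ A := by
  have hx : M.δ w ∈ T := M.hET (M.hδE w hw)
  have h1 := hN _ hx _ (inv_mem ha)
  have h2 := mul_mem h1 ha
  have h3 : (M.δ w)⁻¹ * (M.τ e * M.δ v)⁻¹ * M.δ w * (M.τ e * M.δ v) = M.δ (w ^^^ M.act e w) := by
    rw [M.hxor, ← M.conj_elt e v w he hw, M.δinv]; group
  rw [h3] at h2
  exact h2

/-- the intersection with `E` of an abelian subgroup containing an element outside `E` -/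
theorem card_inf_le (A : Subgroup G) (hAb : ∀ a ∈ A, ∀ b ∈ A, a * b = b * a) (e0 v0 : ℕ) (he0 : e0 < 128)
    (he0pos : 0 < e0) (ha0 : M.τ e0 * M.δ v0 ∈ A) : Nat.card (A ⊓ E : Subgroup G) ≤ 512 := by
  obtain ⟨j1, hj1, j2, hj2, h1, h2, h3⟩ := M.hC1 e0 he0 he0pos
  have hw1 := M.pow_lt j1 hj1
  have hw2 := M.pow_lt j2 hj2
  have hw3 := M.xor_lt _ _ hw1 hw2
  have hx : ∀ w < 2048, M.act e0 w ≠ w → M.δ w ∉ (A ⊓ E : Subgroup G) := by
    intro w hw hne hmem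
    exact hne (M.fix_of_comm A hAb e0 v0 w he0 hw ha0 (Subgroup.mem_inf.mp hmem).1)
  have hx1 := hx _ hw1 h1
  have hx2 := hx _ hw2 h2
  have hx3 := hx _ hw3 h3
  have hBE : (A ⊓ E : Subgroup G) ≤ E := inf_le_right
  have hcard : Nat.card (A ⊓ E : Subgroup G) * ((A ⊓ E : Subgroup G).subgroupOf E).index = 2048 := by
    have := Subgroup.card_mul_index ((A ⊓ E : Subgroup G).subgroupOf E)
    rw [M.card_E, Nat.card_congr (Subgroup.subgroupOfEquivOfLe hBE).toEquiv] at this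
    exact this
  have hdvd : ((A ⊓ E : Subgroup G).subgroupOf E).index ∣ 2 ^ 11 :=
    ⟨Nat.card (A ⊓ E : Subgroup G), by rw [mul_comm, hcard]; norm_num⟩
  obtain ⟨k, _, hk2⟩ := (Nat.dvd_prime_pow Nat.prime_two).mp hdvd
  have hk0 : k ≠ 0 := by
    intro h0
    rw [h0, pow_zero, Subgroup.index_eq_one] at hk2
    have : (⟨M.δ (2 ^ j1), M.hδE _ hw1⟩ : E) ∈ (A ⊓ E : Subgroup G).subgroupOf E := by rw [hk2]; trivial
    rw [Subgroup.mem_subgroupOf] at this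
    exact hx1 this
  have hk1 : k ≠ 1 := by
    intro h1'
    rw [h1', pow_one] at hk2
    have hiff := Subgroup.mul_mem_iff_of_index_two hk2 (a := (⟨M.δ (2 ^ j1), M.hδE _ hw1⟩ : E))
      (b := (⟨M.δ (2 ^ j2), M.hδE _ hw2⟩ : E))
    have hmem : (⟨M.δ (2 ^ j1), M.hδE _ hw1⟩ : E) * ⟨M.δ (2 ^ j2), M.hδE _ hw2⟩ ∈
        (A ⊓ E : Subgroup G).subgroupOf E := by
      rw [hiff]
      constructor
      · intro h; rw [Subgroup.mem_subgroupOf] at h; exact absurd h hx1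
      · intro h; rw [Subgroup.mem_subgroupOf] at h; exact absurd h hx2
    rw [Subgroup.mem_subgroupOf] at hmem
    apply hx3
    rw [M.hxor]
    exact hmem
  have hk4 : 4 ≤ ((A ⊓ E : Subgroup G).subgroupOf E).index := by
    rw [hk2]
    have : 2 ≤ k := by omega
    calc 4 = 2 ^ 2 := by norm_num
      _ ≤ 2 ^ k := Nat.pow_le_pow_right (by norm_num) this
  nlinarith

/-- the main bound -/
theorem card_le_of_not_le (A : Subgroup G) (hAT : A ≤ T) (hN : ∀ t ∈ T, ∀ a ∈ A, t⁻¹ * a * t ∈ A)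
    (hAb : ∀ a ∈ A, ∀ b ∈ A, a * b = b * a) (hnot : ¬ A ≤ E) : Nat.card A ≤ 1024 := by
  obtain ⟨a0, ha0, ha0E⟩ := SetLike.not_le_iff_exists.mp hnot
  obtain ⟨e0, he0, v0, hv0, rfl⟩ := M.hT a0 (hAT ha0)
  have he0pos : 0 < e0 := by
    rcases Nat.eq_zero_or_pos e0 with h | h
    · exfalso; apply ha0E; rw [h, M.hτ0, one_mul]; exact M.hδE v0 hv0
    · exact h
  have hB := M.card_inf_le A hAb e0 v0 he0 he0pos ha0
  -- the other elements
  have hrest : ∀ b ∈ A, b ∉ E →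
      b ∈ (fun c => M.τ e0 * M.δ v0 * c) '' ((A ⊓ E : Subgroup G) : Set G) := by
    intro b hbA hbE
    obtain ⟨e', he', v', hv', rfl⟩ := M.hT b (hAT hbA)
    have he'pos : 0 < e' := by
      rcases Nat.eq_zero_or_pos e' with h | h
      · exfalso; apply hbE; rw [h, M.hτ0, one_mul]; exact M.hδE v' hv'
      · exact h
    have hee : e' = e0 := by
      by_contra hne
      obtain ⟨j, hj, hj2⟩ := M.hC2 e0 he0 e' he' he0pos he'pos (fun h => hne h.symm)
      have hw := M.pow_lt j hj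
      have hu : 2 ^ j ^^^ M.act e0 (2 ^ j) < 2048 := M.xor_lt _ _ hw (M.hactlt e0 he0 _ hw)
      have hmem := M.comm_mem A hN e0 v0 (2 ^ j) he0 hw ha0
      have hfix := M.fix_of_comm A hAb e' v' _ he' hu hbA hmem
      apply hj2
      rw [hfix, Nat.xor_self]
    subst hee
    refine ⟨(M.τ e' * M.δ v0)⁻¹ * (M.τ e' * M.δ v'), ?_, by group⟩
    refine SetLike.mem_coe.mpr (Subgroup.mem_inf.mpr ⟨mul_mem (inv_mem ha0) hbA, ?_⟩)
    have : (M.τ e' * M.δ v0)⁻¹ * (M.τ e' * M.δ v') = M.δ (v0 ^^^ v') := by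
      have h0 : (M.τ e' * M.δ v0)⁻¹ * (M.τ e' * M.δ v') = (M.δ v0)⁻¹ * M.δ v' := by group
      rw [h0, M.δinv, M.hxor]
    rw [this]
    exact M.hδE _ (M.xor_lt _ _ hv0 hv')
  have hsub : (A : Set G) ⊆ ((A ⊓ E : Subgroup G) : Set G) ∪
      (fun c => M.τ e0 * M.δ v0 * c) '' ((A ⊓ E : Subgroup G) : Set G) := by
    intro b hb
    by_cases hbE : b ∈ E
    · exact Or.inl (SetLike.mem_coe.mpr (Subgroup.mem_inf.mpr ⟨hb, hbE⟩))
    · exact Or.inr (hrest b hb hbE)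
  haveI := Nat.finite_of_card_ne_zero (α := E) (by rw [M.card_E]; norm_num)
  have hfin1 : (((A ⊓ E : Subgroup G) : Set G)).Finite :=
    Set.Finite.subset (Set.toFinite (E : Set G)) (fun x hx => (Subgroup.mem_inf.mp (SetLike.mem_coe.mp hx)).2)
  have hfin2 : ((fun c => M.τ e0 * M.δ v0 * c) '' ((A ⊓ E : Subgroup G) : Set G)).Finite := hfin1.image _
  have hc1 : (((A ⊓ E : Subgroup G) : Set G)).ncard ≤ 512 := by
    rw [← Nat.card_coe_set_eq]; exact hB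
  have hc2 : ((fun c => M.τ e0 * M.δ v0 * c) '' ((A ⊓ E : Subgroup G) : Set G)).ncard ≤ 512 :=
    le_trans (Set.ncard_image_le hfin1) hc1
  have h1 : Nat.card A = (A : Set G).ncard := (Nat.card_coe_set_eq (A : Set G))
  rw [h1]
  calc (A : Set G).ncard ≤ (((A ⊓ E : Subgroup G) : Set G) ∪
          (fun c => M.τ e0 * M.δ v0 * c) '' ((A ⊓ E : Subgroup G) : Set G)).ncard :=
        Set.ncard_le_ncard hsub (hfin1.union hfin2)
    _ ≤ (((A ⊓ E : Subgroup G) : Set G)).ncard +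
          ((fun c => M.τ e0 * M.δ v0 * c) '' ((A ⊓ E : Subgroup G) : Set G)).ncard :=
        Set.ncard_union_le _ _
    _ ≤ 1024 := by omega

end PcModel

end Cfsg.Agent.Helper92.Fi23S
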